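import Cfsg.Agent.AutPSU.Semilinear

/-!
`PSU_n` over isomorphic fields.
-/

set_option autoImplicit false

namespace CfsgLib.PGU3Char

variable {F F' : Type*} [Field F] [Field F'] {n q : ℕ}

open scoped Matrix

theorem map_mem_SU (e : F ≃+* F') (g : Cfsg.SU n F q) :
    Matrix.SpecialLinearGroup.map (e : F →+* F') g.1 ∈ Cfsg.SU n F' q := by
  intro u v
  have key : ∀ w : Fin n → F', (Cfsg.slToMat n F')
      (Matrix.SpecialLinearGroup.map (e : F →+* F') g.1) *ᵥ w =
        fun i => e ((Cfsg.slToMat n F g.1 *ᵥ fun j => e.symm (w j)) i) := by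
    intro w
    funext i
    simp only [Matrix.mulVec, dotProduct, map_sum, map_mul, RingEquiv.apply_symm_apply]
    rfl
  have hform : ∀ a b : Fin n → F,
      Cfsg.hermForm n F' q (fun i => e (a i)) (fun i => e (b i)) = e (Cfsg.hermForm n F q a b) := by
    intro a b
    simp only [Cfsg.hermForm, map_sum, map_mul, map_pow]
  rw [key u, key v, hform, g.2, ← hform]
  simp only [RingEquiv.apply_symm_apply]

/-- Transport of the special unitary group along a field isomorphism. -/
def suCongr (e : F ≃+* F') : Cfsg.SU n F q ≃* Cfsg.SU n F' q where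
  toFun g := ⟨_, map_mem_SU e g⟩
  invFun g := ⟨_, map_mem_SU e.symm g⟩
  left_inv g := by
    apply Subtype.ext
    apply Matrix.SpecialLinearGroup.ext
    intro i j
    exact e.symm_apply_apply _
  right_inv g := by
    apply Subtype.ext
    apply Matrix.SpecialLinearGroup.ext
    intro i j
    exact e.apply_symm_apply _
  map_mul' a b := Subtype.ext (map_mul (Matrix.SpecialLinearGroup.map (e : F →+* F')) a.1 b.1)

/-- Transport of the projective special unitary group along a field isomorphism. -/
noncomputable def psuCongr (e : F ≃+* F') : Cfsg.PSU n F q ≃* Cfsg.PSU n F' q :=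
  QuotientGroup.congr _ _ (suCongr e) (by
    ext x
    rw [Subgroup.mem_map]
    constructor
    · rintro ⟨z, hz, rfl⟩
      refine Subgroup.mem_center_iff.mpr fun g => ?_
      obtain ⟨g, rfl⟩ := (suCongr (n := n) (q := q) e).surjective g
      change suCongr e g * suCongr e z = suCongr e z * suCongr e g
      rw [← map_mul, ← map_mul, Subgroup.mem_center_iff.mp hz g]
    · intro hx
      refine ⟨(suCongr e).symm x, Subgroup.mem_center_iff.mpr fun g => ?_,
        (suCongr e).apply_symm_apply x⟩
      apply (suCongr (n := n) (q := q) e).injective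
      rw [map_mul, map_mul, MulEquiv.apply_symm_apply]
      exact Subgroup.mem_center_iff.mp hx _)

end CfsgLib.PGU3Char
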