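import Cfsg.Agent.PGU3Char.Model
import Cfsg.Agent.PGU3Char.Congr
import Cfsg.Agent.Bender.StructureMain
import Cfsg.Agent.Recog.RankOneSuzuki.Main

/-!
Characterization of `PGU₃(2^n)` by the centralizer of an involution: the Sylow 2-subgroups are
trivial intersection sets, so Bender's theorem and Suzuki's rank one theorem give a normal subgroup
`PSU₃(2^n)` of odd index; the centralizer of an involution centralizes a root group, so the group
consists of inner-diagonal automorphisms, and counting involutions gives equality.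
-/

set_option autoImplicit false
set_option linter.unusedSectionVars false
set_option linter.style.haveILetI false

namespace CfsgLib.PGU3Char

open Matrix CfsgLib.Unitary CfsgLib.AutPSU CfsgLib.Forms

section Model

variable {F : Type*} [Field F] [Finite F] {q : ℕ} (hF : Nat.card F = q ^ 2) [CharP F 2]
include hF

/-- The map `PSU₃ → PGU₃`. -/
noncomputable def iota :
    Cfsg.PSU 3 F q →* ↥(Cfsg.GU 3 F q) ⧸ Subgroup.center ↥(Cfsg.GU 3 F q) :=
  QuotientGroup.lift _ ((QuotientGroup.mk' _).comp suToGU) fun k hk => by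
    show (QuotientGroup.mk (suToGU k) : _ ⧸ _) = 1
    obtain ⟨a, ha⟩ := (mem_center_SU_iff hF (by norm_num)).1 hk
    refine (QuotientGroup.eq_one_iff _).2 (Subgroup.mem_center_iff.2 fun g => Subtype.ext (Units.ext ?_))
    show mt g * mt (suToGU k) = mt (suToGU k) * mt g
    rw [show mt (suToGU k) = a • 1 from ha, Matrix.mul_smul, Matrix.smul_mul, mul_one, one_mul]

theorem iota_mk (k : Cfsg.SU 3 F q) :
    iota hF (QuotientGroup.mk k) = QuotientGroup.mk (suToGU k) := rfl

theorem iota_injective : Function.Injective (iota hF) := by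
  refine (injective_iff_map_eq_one _).2 fun p hp => ?_
  obtain ⟨k, rfl⟩ := QuotientGroup.mk_surjective p
  rw [iota_mk, QuotientGroup.eq_one_iff] at hp
  refine (QuotientGroup.eq_one_iff _).2 (Subgroup.mem_center_iff.2 fun g => suMat_inj ?_)
  have h := Subgroup.mem_center_iff.1 hp (suToGU g)
  rw [← map_mul, ← map_mul] at h
  exact congrArg mt h

theorem range_of_sq {y : ↥(Cfsg.GU 3 F q) ⧸ Subgroup.center ↥(Cfsg.GU 3 F q)} (h : y * y = 1) :
    y ∈ (iota hF).range := by
  by_cases h1 : y = 1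
  · exact h1 ▸ one_mem _
  obtain ⟨v, c, hv0, hc, -, -, rfl⟩ := exists_tv hF (orderOf_eq_prime (by rw [sq, h]) h1)
  exact ⟨QuotientGroup.mk (suTv 3 v c hv0 hc hF), rfl⟩

/-- The number of elements of square one centralizing an involution. -/
theorem card_comm {y : Cfsg.PSU 3 F q} (hy : orderOf y = 2) :
    Nat.card {p : Cfsg.PSU 3 F q // p * p = 1 ∧ Commute p y} = q := by
  have hy' : orderOf (iota hF y) = 2 := by rw [orderOf_injective _ (iota_injective hF), hy]
  refine (Nat.card_congr (Equiv.ofBijective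
    (fun p => ⟨⟨iota hF p.1, Subgroup.mem_centralizer_singleton_iff.2 (p.2.2.map (iota hF)).eq⟩,
      Subtype.ext (by show iota hF p.1 * iota hF p.1 = 1; rw [← map_mul, p.2.1, map_one])⟩)
    ⟨fun a b h => Subtype.ext (iota_injective hF (congrArg (fun g => g.1.1) h)), fun g => ?_⟩)).trans
    (cent_facts_pgu hF hy').card_sq
  obtain ⟨p, hp⟩ := range_of_sq hF (congrArg Subtype.val g.2)
  refine ⟨⟨p, iota_injective hF (by rw [map_mul, hp, map_one]; exact congrArg Subtype.val g.2),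
    iota_injective hF ?_⟩, Subtype.ext (Subtype.ext hp)⟩
  rw [map_mul, map_mul, hp]
  exact Subgroup.mem_centralizer_singleton_iff.1 g.1.2

/-- `PGU₃` acts on `PSU₃`. -/
noncomputable def psiP (_ : Nat.card F = q ^ 2) :
    ↥(Cfsg.GU 3 F q) ⧸ Subgroup.center ↥(Cfsg.GU 3 F q) →* MulAut (Cfsg.PSU 3 F q) :=
  QuotientGroup.lift _ (innDiagHom 3 F q) fun z hz => by
    refine MonoidHom.mem_ker.2 (aut_ext fun s => ?_)
    rw [innDiagHom_apply, suAut_mk, MulAut.one_apply]
    refine congrArg _ (suMat_inj ?_)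
    rw [suMat_suFun, show (suMat s).map (1 : RingAut F) = suMat s from rfl]
    have h := congrArg mt (Subgroup.mem_center_iff.1 hz (suToGU s))
    show mt z * suMat s * mt z⁻¹ = suMat s
    rw [show mt z * suMat s = suMat s * mt z from h.symm, mul_assoc,
      show mt z * mt z⁻¹ = mt (z * z⁻¹) from rfl, mul_inv_cancel]
    exact mul_one _

theorem psiP_mk (g : ↥(Cfsg.GU 3 F q)) : psiP hF (QuotientGroup.mk g) = suAut g 1 := rfl

theorem psiP_injective : Function.Injective (psiP hF) := by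
  refine (injective_iff_map_eq_one _).2 fun p hp => ?_
  obtain ⟨g, rfl⟩ := QuotientGroup.mk_surjective p
  obtain ⟨w, rfl⟩ := (mem_ker_innDiag hF le_rfl).1 hp
  exact (QuotientGroup.eq_one_iff _).2
    (Subgroup.mem_center_iff.2 fun k => (scalarU_comm hF w k).symm)

theorem psiP_iota (p : Cfsg.PSU 3 F q) : psiP hF (iota hF p) = MulAut.conj p := by
  obtain ⟨k, rfl⟩ := QuotientGroup.mk_surjective p
  rw [iota_mk, psiP_mk]
  exact suAut_toGU k

/-- A semilinear automorphism fixing a root group pointwise has field part of order at most 2. -/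
theorem sigma_sq {e : Fin 3 → F} (he : e ≠ 0) (hee : Cfsg.hermForm 3 F q e e = 0)
    {g : ↥(Cfsg.GU 3 F q)} {σ : RingAut F}
    (hfix : ∀ (c : F) (hc : c + c ^ q = 0), suAut g σ (QuotientGroup.mk (suTv 3 e c hee hc hF)) =
      (QuotientGroup.mk (suTv 3 e c hee hc hF) : Cfsg.PSU 3 F q)) : σ * σ = 1 := by
  set se : Fin 3 → F := fun i => σ (e i)
  have hse : Cfsg.hermForm 3 F q se se = 0 := by rw [← map_herm, hee, map_zero]
  have hgse : Cfsg.hermForm 3 F q (mt g *ᵥ se) (mt g *ᵥ se) = 0 :=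
    (gu_preserves g se se).trans hse
  have hgse0 : mt g *ᵥ se ≠ 0 := fun h => he (by
    funext i
    have h1 := congrFun (gu_injective g (h.trans (Matrix.mulVec_zero _).symm)) i
    exact σ.injective (h1.trans (map_zero σ).symm))
  have hkey : ∀ c : F, c + c ^ q = 0 →
      Cfsg.unitaryTransvection 3 q (mt g *ᵥ se) (σ c) = Cfsg.unitaryTransvection 3 q e c := by
    intro c hc
    have hm : suMat (suFun g σ (suTv 3 e c hee hc hF)) =
        Cfsg.unitaryTransvection 3 q (mt g *ᵥ se) (σ c) := by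
      rw [suMat_suFun, show (suMat (suTv 3 e c hee hc hF)).map σ =
        (Cfsg.unitaryTransvection 3 q e c).map σ from rfl, utv_map]
      exact utv_gu_conj g se (σ c)
    exact mk_utv_eq hF (by norm_num) hgse hee hm rfl (hfix c hc)
  have h1c : (1 : F) + 1 ^ q = 0 := by rw [one_pow, CharTwo.add_self_eq_zero]
  have h1 := hkey 1 h1c
  rw [map_one] at h1
  obtain ⟨l, hl⟩ := utv_eq_span hF hgse0 one_ne_zero h1
  have hinj : ∀ c : F, c + c ^ q = 0 → σ c * l ^ (q + 1) = c := fun c hc => by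
    have h := hkey c hc
    rw [hl, utv_smul hF] at h
    exact utv_injective hF he h
  have hl1 : l ^ (q + 1) = 1 := by simpa using hinj 1 h1c
  have hfixK : ∀ c : F, c ^ q = c → σ c = c := fun c hc => by
    simpa [hl1] using hinj c (by rw [hc, CharTwo.add_self_eq_zero])
  refine RingEquiv.ext fun a => ?_
  show σ (σ a) = a
  have htr : σ a + σ a ^ q = a + a ^ q := by
    rw [← map_pow, ← map_add]
    exact hfixK _ (by rw [add_pow_q hF, pow_q_q hF, add_comm])
  have hnm : σ a * σ a ^ q = a * a ^ q := by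
    rw [← map_pow, ← map_mul]
    exact hfixK _ (by rw [mul_pow, pow_q_q hF, mul_comm])
  have hz : (σ a - a) * (σ a - a ^ q) = 0 := by linear_combination σ a * htr - hnm
  rcases mul_eq_zero.1 hz with h | h
  · rw [sub_eq_zero.1 h, sub_eq_zero.1 h]
  · rw [sub_eq_zero.1 h, map_pow, sub_eq_zero.1 h, pow_q_q hF]

end Model

universe u

open CfsgLib.Bender CfsgLib.Bender.GSide

/-- Characterization of `PGU₃(2^n)` by the centralizer of an involution. -/
theorem main {G : Type u} [Group G] [Finite G] {F : Type*} [Field F] [Finite F] [CharP F 2]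
    {q : ℕ} (hF : Nat.card F = q ^ 2) (hq : 2 < q) (heven : Even (Nat.card G))
    (hconj : ∀ s t : G, orderOf s = 2 → orderOf t = 2 → IsConj s t)
    (hC : ∀ (x : G) (y : ↥(Cfsg.GU 3 F q) ⧸ Subgroup.center ↥(Cfsg.GU 3 F q)),
      orderOf x = 2 → orderOf y = 2 →
      Nonempty (↥(Subgroup.centralizer ({x} : Set G)) ≃* ↥(Subgroup.centralizer ({y} : Set _))))
    (hS : ∀ P : Sylow 2 G, ¬ (P : Subgroup G).Normal) :
    Nonempty (G ≃* (↥(Cfsg.GU 3 F q) ⧸ Subgroup.center ↥(Cfsg.GU 3 F q))) := by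
  haveI : Fact (Nat.Prime 2) := ⟨Nat.prime_two⟩
  obtain ⟨y₀, hy₀⟩ := exists_invol hF
  have hfacts : ∀ x : G, orderOf x = 2 →
      CentFacts ↥(Subgroup.centralizer ({x} : Set G)) q := fun x hx =>
    let ⟨e⟩ := hC x y₀ hx hy₀; (cent_facts_pgu hF hy₀).congr e.symm
  obtain ⟨P⟩ : Nonempty (Sylow 2 G) := inferInstance
  -- a central involution of `P`
  have hP2 : IsPGroup 2 (P : Subgroup G) := P.isPGroup'
  obtain ⟨w, hw⟩ := exists_prime_orderOf_dvd_card' (G := (P : Subgroup G)) 2 (by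
    rw [P.card_eq_multiplicity]
    exact dvd_pow_self 2 (Nat.one_le_iff_ne_zero.1
      (Nat.Prime.factorization_pos_of_dvd Nat.prime_two Nat.card_pos.ne' (even_iff_two_dvd.1 heven))))
  haveI : Nontrivial (P : Subgroup G) := ⟨⟨w, 1, fun h => by
    rw [h, orderOf_one] at hw; exact absurd hw (by decide)⟩⟩
  haveI := hP2.center_nontrivial
  obtain ⟨l, hl⟩ := IsPGroup.iff_card.1 (hP2.to_subgroup (Subgroup.center (P : Subgroup G)))
  obtain ⟨z, hz⟩ := exists_prime_orderOf_dvd_card' (G := Subgroup.center (P : Subgroup G)) 2 (by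
    rcases l with _ | l
    · rw [pow_zero] at hl
      exact absurd hl (ne_of_gt Finite.one_lt_card)
    · exact hl ▸ dvd_pow_self 2 (Nat.succ_ne_zero l))
  set x : G := ((z : (P : Subgroup G)) : G) with hxdef
  have hx : orderOf x = 2 := by rw [hxdef, Subgroup.orderOf_coe, Subgroup.orderOf_coe, hz]
  have hxP : x ∈ (P : Subgroup G) := (z : (P : Subgroup G)).2
  -- the 2-elements of the centralizer of an involution of `P` are those of `P`
  have hmax : ∀ x : G, orderOf x = 2 → ∀ Q : Sylow 2 G,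
      (Q : Subgroup G) ≤ Subgroup.centralizer {x} →
      ∀ g ∈ Subgroup.centralizer ({x} : Set G), (∃ i : ℕ, g ^ 2 ^ i = 1) →
        g ∈ (Q : Subgroup G) := by
    intro x hx Q hQ g hg hg2
    obtain ⟨U, -, hU, -, hmem⟩ := (hfacts x hx).two_closed
    have hle : (Q : Subgroup G) ≤ U.map (Subgroup.centralizer ({x} : Set G)).subtype := fun k hk => by
      obtain ⟨i, hi⟩ := Q.isPGroup' ⟨k, hk⟩
      exact ⟨⟨k, hQ hk⟩, hmem _ ⟨i, Subtype.ext (congrArg Subtype.val hi :)⟩, rfl⟩
    obtain ⟨i, hi⟩ := hg2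
    rw [← Q.3 (hU.map _) hle]
    exact ⟨⟨g, hg⟩, hmem _ ⟨i, Subtype.ext hi⟩, rfl⟩
  have hPx : (P : Subgroup G) ≤ Subgroup.centralizer {x} := fun k hk =>
    Subgroup.mem_centralizer_singleton_iff.2
      (congrArg Subtype.val (Subgroup.mem_center_iff.1 z.2 ⟨k, hk⟩) :)
  -- involutions of a Sylow subgroup are central in it
  have hinvol : ∀ (Q : Sylow 2 G) (t : G), t ∈ (Q : Subgroup G) → orderOf t = 2 →
      (Q : Subgroup G) ≤ Subgroup.centralizer {t} := by
    intro Q t htQ ht k hk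
    obtain ⟨g, hg⟩ := MulAction.exists_smul_eq G P Q
    have hmem : ∀ y ∈ (Q : Subgroup G), g⁻¹ * y * g ∈ (P : Subgroup G) := fun y hy => by
      rw [← hg, Sylow.coe_subgroup_smul] at hy
      have := Subgroup.mem_pointwise_smul_iff_inv_smul_mem.1 hy
      simpa [MulAut.smul_def] using this
    have ht' : orderOf (g⁻¹ * t * g) = 2 := by
      simpa using (Invol.orderOf_conj_eq g⁻¹ t).trans ht
    have hc := (hfacts x hx).central ⟨_, hPx (hmem t htQ)⟩ ⟨_, hPx (hmem k hk)⟩
      (Subtype.ext (Invol.mul_self_eq_one ht'))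
    rw [Subgroup.mem_centralizer_singleton_iff]
    have hc' : g⁻¹ * t * g * (g⁻¹ * k * g) = g⁻¹ * k * g * (g⁻¹ * t * g) :=
      congrArg Subtype.val hc
    calc k * t = g * (g⁻¹ * k * g * (g⁻¹ * t * g)) * g⁻¹ := by group
      _ = g * (g⁻¹ * t * g * (g⁻¹ * k * g)) * g⁻¹ := by rw [hc']
      _ = t * k := by group
  have hTI : ∀ (Q : Sylow 2 G) (t : G), t ∈ (P : Subgroup G) → t ∈ (Q : Subgroup G) →
      orderOf t = 2 → P = Q := by
    intro Q t htP htQ ht
    refine Sylow.ext (le_antisymm (fun k hk => ?_) fun k hk => ?_)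
    · obtain ⟨i, hi⟩ := hP2 ⟨k, hk⟩
      exact hmax t ht Q (hinvol Q t htQ ht) k (hinvol P t htP ht hk) ⟨i, congrArg Subtype.val hi⟩
    · obtain ⟨i, hi⟩ := Q.isPGroup' ⟨k, hk⟩
      exact hmax t ht P (hinvol P t htP ht) k (hinvol Q t htQ ht hk) ⟨i, congrArg Subtype.val hi⟩
  set H : Subgroup G := Subgroup.normalizer ((P : Subgroup G) : Set G) with hHdef
  have hPH : (P : Subgroup G) ≤ H := Subgroup.le_normalizer
  have hH2 : ∀ k ∈ H, (∃ i : ℕ, k ^ 2 ^ i = 1) → k ∈ (P : Subgroup G) := by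
    rintro k hk ⟨i, hi⟩
    have hk2 : IsPGroup 2 (Subgroup.zpowers k) := by
      obtain ⟨j, -, hj⟩ := (Nat.dvd_prime_pow Nat.prime_two).1 (orderOf_dvd_of_pow_eq_one hi)
      exact IsPGroup.of_card (n := j) (by rw [Nat.card_zpowers, hj])
    have h := hk2.to_sup_of_normal_right' hP2 (Subgroup.zpowers_le.2 hk)
    rw [← P.3 h le_sup_right]
    exact Subgroup.mem_sup_left (Subgroup.mem_zpowers k)
  have hse : Cfsg.IsStronglyEmbedded H := by
    refine ⟨fun h => hS P (Subgroup.normalizer_eq_top_iff.1 h), ?_, fun g hg => ?_⟩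
    · exact even_iff_two_dvd.2 (hx ▸ Subgroup.orderOf_dvd_natCard _ (hPH hxP))
    · by_contra hev
      obtain ⟨t, ht⟩ := exists_prime_orderOf_dvd_card'
        (G := ↥(H ⊓ H.map (MulAut.conj g).toMonoidHom)) 2
        (even_iff_two_dvd.1 (Nat.not_odd_iff_even.1 hev))
      have ht' : orderOf (t : G) = 2 := by rw [Subgroup.orderOf_coe, ht]
      obtain ⟨s, hs, hst⟩ := t.2.2
      have hsP : s ∈ (P : Subgroup G) := by
        refine hH2 s hs ⟨1, ?_⟩
        refine (MulAut.conj g).injective ?_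
        rw [map_pow, map_one, show MulAut.conj g s = (t : G) from hst, pow_one, sq,
          Invol.mul_self_eq_one ht']
      have htP : (t : G) ∈ (P : Subgroup G) :=
        hH2 _ t.2.1 ⟨1, by rw [pow_one, sq, Invol.mul_self_eq_one ht']⟩
      have hQ := hTI (g • P) t htP (by
        rw [← hst, Sylow.coe_subgroup_smul]
        exact Subgroup.smul_mem_pointwise_smul _ _ _ hsP) ht'
      exact hg (Sylow.smul_eq_iff_mem_normalizer.1 hQ.symm)
  have hcardC : Nat.card {g : ↥(Subgroup.centralizer ({x} : Set G)) // g * g = 1} = q :=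
    (hfacts x hx).card_sq
  have hpair : PairRank G := by
    obtain ⟨g, hg1, hgx⟩ : ∃ g : {g : ↥(Subgroup.centralizer ({x} : Set G)) // g * g = 1},
        (g.1 : G) ≠ 1 ∧ (g.1 : G) ≠ x := by
      by_contra hcon
      push Not at hcon
      have hle : Nat.card {g : ↥(Subgroup.centralizer ({x} : Set G)) // g * g = 1} ≤
          Nat.card Bool :=
        Nat.card_le_card_of_injective
            (fun g => @decide ((g.1 : G) = 1) (Classical.propDecidable _)) fun g g' h => by
          refine Subtype.ext (Subtype.ext ?_)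
          have h' : (g.1 : G) = 1 ↔ (g'.1 : G) = 1 := by
            have := (decide_eq_decide (p := (g.1 : G) = 1) (q := (g'.1 : G) = 1)).1 h
            exact this
          by_cases h1 : (g.1 : G) = 1
          · rw [h1, h'.1 h1]
          · rw [hcon g h1, hcon g' fun h2 => h1 (h'.2 h2)]
      rw [hcardC, Nat.card_eq_fintype_card, Fintype.card_bool] at hle
      omega
    exact ⟨x, g.1, hx, Invol.orderOf_eq_two (congrArg Subtype.val g.2) hg1, hgx.symm,
      (Subgroup.mem_centralizer_singleton_iff.1 g.1.2).symm⟩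
  have hodd : Cfsg.oddCore G = ⊥ := by
    have hn : (Cfsg.oddCore G).Normal := inferInstance
    have hOodd : Odd (Nat.card (Cfsg.oddCore G)) := IsoApps.odd_oddCore
    have hOH : Cfsg.oddCore G ≤ H := Core.normal_odd_le hse hpair hn hOodd
    have hd : Disjoint (Cfsg.oddCore G) (P : Subgroup G) := Subgroup.disjoint_def.2 fun {k} hk hkP => by
      obtain ⟨i, hi⟩ := hP2 ⟨k, hkP⟩
      exact Consumers.eq_one_of_two_of_odd
        (hOodd.of_dvd_nat (Subgroup.orderOf_dvd_natCard _ hk)) (congrArg Subtype.val hi :)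
    have hOC : Cfsg.oddCore G ≤ Subgroup.centralizer {x} := fun o ho => by
      rw [Subgroup.mem_centralizer_singleton_iff]
      have h1 : o * x * o⁻¹ * x⁻¹ ∈ Cfsg.oddCore G := by
        rw [mul_assoc o x, mul_assoc o]
        exact mul_mem ho (hn.conj_mem _ (inv_mem ho) x)
      have h2 : o * x * o⁻¹ * x⁻¹ ∈ (P : Subgroup G) :=
        mul_mem ((Subgroup.mem_normalizer_iff.1 (hOH ho) x).1 hxP) (inv_mem hxP)
      exact mul_inv_eq_iff_eq_mul.1 (mul_inv_eq_one.1 (Subgroup.disjoint_def.1 hd h1 h2))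
    have h := (hfacts x hx).odd_normal ((Cfsg.oddCore G).subgroupOf _) inferInstance
      (by rwa [Nat.card_congr (Subgroup.subgroupOfEquivOfLe hOC).toEquiv])
    rwa [Subgroup.subgroupOf_eq_bot, disjoint_of_le_iff_left_eq_bot hOC] at h
  obtain ⟨T, hTH, hTn, hT2, htr⟩ := Consumers.structure_all G H hse hodd hpair
  have hTP : T = (P : Subgroup G) := le_antisymm
    (fun k hk => by
      obtain ⟨i, hi⟩ := hT2 ⟨k, hk⟩
      exact hH2 k (hTH hk) ⟨i, congrArg Subtype.val hi⟩)
    fun k hk => by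
      obtain ⟨i, hi⟩ := hP2 ⟨k, hk⟩
      exact Consumers.two_mem_of_shape hse hTH hTn htr (hPH hk) (congrArg Subtype.val hi :)
  subst hTP
  -- the rank one set-up
  obtain ⟨g₁, hg₁⟩ := Consumers.exists_not_mem hse
  obtain ⟨t, ht, htg⟩ := StrongEmbed.exists_swap hse (x := (QuotientGroup.mk 1 : G ⧸ H))
    (y := g₁ • QuotientGroup.mk 1) fun h => hg₁ (StrongEmbed.smul_mk_one_iff.1 h.symm)
  have htH : t ∉ H := fun h => hg₁ (StrongEmbed.smul_mk_one_iff.1 (by
    rw [← htg, StrongEmbed.smul_mk_one_iff.2 h]))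
  have hsetup := Recog.RankOneSuzuki.Coroll.setup_cosets H (P : Subgroup G) t
    (Invol.mul_self_eq_one ht) htH hTH
    (fun h hh x hx => (Subgroup.mem_normalizer_iff.1 (hTn hh) x).1 hx)
    (fun y hy => htr t y htH hy)
    (fun w hw h => Consumers.shape_free hse hTH hT2 htH hw h) (hse.2.2 t htH) hse.2.1
  haveI : FaithfulSMul G (G ⧸ H) := by
    have hcore : H.normalCore = ⊥ := by
      refine le_bot_iff.1 ((?_ : H.normalCore ≤ Cfsg.oddCore G).trans hodd.le)
      refine Core.le_oddCore H.normalCore_normal ((hse.2.2 g₁ hg₁).of_dvd_nat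
        (Subgroup.card_dvd_of_le fun y hy => ⟨H.normalCore_le hy, g₁⁻¹ * y * g₁,
          H.normalCore_le (by simpa using H.normalCore_normal.conj_mem y hy g₁⁻¹),
          by simp [mul_assoc]⟩))
    rw [Subgroup.normalCore_eq_ker, MonoidHom.ker_eq_bot_iff] at hcore
    exact ⟨fun {a b} h => hcore (Equiv.ext h)⟩
  obtain ⟨u, v, hu, hv, hne, hcuv⟩ := id hpair
  obtain ⟨S⟩ := Recog.RankOneSuzuki.exists_data hsetup
    ⟨u, v, Invol.ne_one hu, Invol.ne_one hv, hne, Invol.mul_self_eq_one hu,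
      Invol.mul_self_eq_one hv, hcuv.eq⟩
  have hin : ∀ k ∈ Subgroup.centralizer ({x} : Set G), k * k = 1 → k ∈ (P : Subgroup G) :=
    fun k hk hk2 => hmax x hx P hPx k hk ⟨1, by rw [pow_one, sq, hk2]⟩
  have hZ : Nat.card S.Z = q := by
    rw [← hcardC]
    exact Nat.card_congr
      { toFun := fun k => ⟨⟨k.1, hPx ((S.mem_Z _).1 k.2).1⟩, Subtype.ext ((S.mem_Z _).1 k.2).2⟩
        invFun := fun k => ⟨k.1.1, (S.mem_Z _).2
          ⟨hin _ k.1.2 (congrArg Subtype.val k.2), congrArg Subtype.val k.2⟩⟩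
        left_inv := fun _ => rfl
        right_inv := fun _ => rfl }
  have hPcard : Nat.card (P : Subgroup G) = q ^ 3 := by
    obtain ⟨U, -, hU, hUc, hmem⟩ := (hfacts x hx).two_closed
    rw [← hUc, ← Subgroup.card_map_of_injective
      (Subgroup.centralizer ({x} : Set G)).subtype_injective]
    have heq : U.map (Subgroup.centralizer ({x} : Set G)).subtype = (P : Subgroup G) :=
      P.3 (hU.map _) fun k hk => by
        obtain ⟨i, hi⟩ := hP2 ⟨k, hk⟩
        exact ⟨⟨k, hPx hk⟩, hmem _ ⟨i, Subtype.ext (congrArg Subtype.val hi :)⟩, rfl⟩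
    rw [heq]
  have hna : ∃ a ∈ (P : Subgroup G), ∃ b ∈ (P : Subgroup G), a * b ≠ b * a := by
    by_contra hcomm
    push Not at hcomm
    have h := Subgroup.card_le_of_le (S.le_Z_of_abelian hcomm)
    rw [hPcard, hZ] at h
    exact absurd h (not_le.2 (by calc q = q ^ 1 := (pow_one q).symm
      _ < q ^ 3 := Nat.pow_lt_pow_right (by omega) (by norm_num)))
  have hQZ : Nat.card (P : Subgroup G) = Nat.card S.Z ^ 3 := by rw [hPcard, hZ]
  obtain ⟨L, hLn, hLodd, F₀, i₁, i₂, m, hm, hF₀, ⟨ψ₀⟩⟩ :=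
    Recog.RankOneSuzuki.unitary_case S hna hQZ
  haveI := hLn
  have hL2 : ∀ k : G, (∃ i : ℕ, k ^ 2 ^ i = 1) → k ∈ L := fun k ⟨i, hi⟩ => by
    refine (QuotientGroup.eq_one_iff k).1 (Consumers.eq_one_of_two_of_odd (i := i) ?_ ?_)
    · rw [Subgroup.index_eq_card] at hLodd
      exact hLodd.of_dvd_nat (_root_.orderOf_dvd_natCard _)
    · rw [← QuotientGroup.mk_pow, hi, QuotientGroup.mk_one]
  have hLsq : ∀ k : G, k * k = 1 → k ∈ L := fun k hk => hL2 k ⟨1, by rw [pow_one, sq, hk]⟩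
  set xL : L := ⟨x, hLsq x (Invol.mul_self_eq_one hx)⟩ with hxL
  have hxLo : orderOf xL = 2 := by rw [hxL, Subgroup.orderOf_mk, hx]
  -- the field
  obtain ⟨⟨e₀⟩, hmq⟩ : Nonempty (F₀ ≃+* F) ∧ 2 ^ m = q := by
    haveI : CharP F₀ 2 := charP_of_card_eq_prime_pow (f := m * 2) (by rw [hF₀, pow_mul])
    have hF₀' : Nat.card F₀ = (2 ^ m) ^ 2 := by rw [Nat.card_eq_fintype_card, hF₀]
    have hm : 2 ^ m = q := by
      rw [← card_comm hF₀' (y := ψ₀ xL) (by rw [MulEquiv.orderOf_eq, hxLo]), ← hcardC]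
      exact Nat.card_congr
        { toFun := fun p => ⟨⟨(ψ₀.symm p.1 : G), Subgroup.mem_centralizer_singleton_iff.2 (by
              have h := (p.2.2.map ψ₀.symm.toMonoidHom).eq
              simp only [MulEquiv.coe_toMonoidHom, MulEquiv.symm_apply_apply] at h
              exact congrArg Subtype.val h)⟩,
            Subtype.ext (show (ψ₀.symm p.1 : G) * ψ₀.symm p.1 = 1 by
              rw [← Subgroup.coe_mul, ← map_mul, p.2.1, map_one, Subgroup.coe_one])⟩
          invFun := fun k => ⟨ψ₀ ⟨k.1.1, hLsq _ (congrArg Subtype.val k.2)⟩, by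
              rw [← map_mul, show (⟨k.1.1, _⟩ * ⟨k.1.1, _⟩ : L) = 1 from
                Subtype.ext (congrArg Subtype.val k.2 :), map_one],
            Commute.map (show Commute (⟨k.1.1, _⟩ : L) xL from
              Subtype.ext (Subgroup.mem_centralizer_singleton_iff.1 k.1.2)) ψ₀.toMonoidHom⟩
          left_inv := fun p => Subtype.ext (ψ₀.apply_symm_apply p.1)
          right_inv := fun k => by
            have h := congrArg (Subtype.val : L → G)
              (ψ₀.symm_apply_apply ⟨k.1.1, hLsq _ (congrArg Subtype.val k.2)⟩)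
            exact Subtype.ext (Subtype.ext h) }
    letI := Fintype.ofFinite F
    exact ⟨⟨FiniteField.ringEquivOfCardEq (by
      rw [hF₀, hm, ← hF, Nat.card_eq_fintype_card])⟩, hm⟩
  subst hmq
  let ψ : L ≃* Cfsg.PSU 3 F (2 ^ m) := ψ₀.trans (psuCongr e₀)
  let Φ : G →* MulAut (Cfsg.PSU 3 F (2 ^ m)) :=
    (MulAut.congr ψ).toMonoidHom.comp MulAut.conjNormal
  have hΦ : ∀ (g : G) (k : L), Φ g (ψ k) = ψ (MulAut.conjNormal g k) := fun g k => by
    show ψ (MulAut.conjNormal g (ψ.symm (ψ k))) = _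
    rw [MulEquiv.symm_apply_apply]
  have hΦL : ∀ k : L, Φ (k : G) = MulAut.conj (ψ k) := fun k => MulEquiv.ext fun p => by
    obtain ⟨p, rfl⟩ := ψ.surjective p
    rw [hΦ, MulAut.conj_apply, ← map_inv, ← map_mul, ← map_mul]
    exact congrArg ψ (Subtype.ext (MulAut.conjNormal_apply _ _))
  -- injective
  have hker : Φ.ker = ⊥ := by
    have hNL : ∀ k ∈ Φ.ker, k ∈ L → k = 1 := fun k hk hkL => by
      have h := hΦL ⟨k, hkL⟩
      rw [MonoidHom.mem_ker.1 hk] at h
      have h1 := conj_injective hF le_rfl (h.symm.trans (map_one _).symm)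
      exact congrArg Subtype.val (ψ.injective (h1.trans (map_one ψ).symm))
    have hoddN : Odd (Nat.card Φ.ker) := by
      by_contra hev
      obtain ⟨k, hk⟩ := exists_prime_orderOf_dvd_card' (G := Φ.ker) 2
        (even_iff_two_dvd.1 (Nat.not_odd_iff_even.1 hev))
      have hk' : orderOf (k : G) = 2 := by rw [Subgroup.orderOf_coe, hk]
      exact Invol.ne_one hk' (hNL _ k.2 (hLsq _ (Invol.mul_self_eq_one hk')))
    have hNC : Φ.ker ≤ Subgroup.centralizer {x} := fun k hk => by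
      have h := hΦ k xL
      rw [MonoidHom.mem_ker.1 hk, MulAut.one_apply] at h
      have h1 : k * x * k⁻¹ = x :=
        (MulAut.conjNormal_apply k xL).symm.trans (congrArg Subtype.val (ψ.injective h).symm)
      exact Subgroup.mem_centralizer_singleton_iff.2 (mul_inv_eq_iff_eq_mul.1 h1)
    have h := (hfacts x hx).odd_normal (Φ.ker.subgroupOf _) inferInstance
      (by rwa [Nat.card_congr (Subgroup.subgroupOfEquivOfLe hNC).toEquiv])
    rwa [Subgroup.subgroupOf_eq_bot, disjoint_of_le_iff_left_eq_bot hNC] at h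
  -- one class in `L`
  have hseL : Cfsg.IsStronglyEmbedded (H.subgroupOf L) :=
    Core.se_subgroupOf hse fun t ht => hLsq t (Invol.mul_self_eq_one ht)
  -- the field part
  have h32 : ¬ ((3 : ℕ) = 3 ∧ 2 ^ m = 2) := fun h => by omega
  obtain ⟨e, he, hee⟩ := exists_isotropic (n := 3) hF (by norm_num)
  obtain ⟨f, uu, Tr⟩ := exists_tri hF he hee
  have h1c : (1 : F) + 1 ^ (2 ^ m) = 0 := by rw [one_pow, CharTwo.add_self_eq_zero]
  set τ : Cfsg.PSU 3 F (2 ^ m) := QuotientGroup.mk (suTv 3 e 1 hee h1c hF) with hτdef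
  have hτ : orderOf τ = 2 := by
    obtain ⟨hm₁, hx₁, hs₁⟩ := tv_mem hF Tr h1c
    refine Invol.orderOf_eq_two ?_ fun h => ?_
    · apply iota_injective hF
      obtain ⟨l, a, b⟩ := coord_mul hF Tr hm₁.1 hm₁.1
      obtain ⟨c₁, c₂, c₃⟩ := coord_one hF Tr
      rw [map_mul, map_one, hτdef, iota_mk, ← QuotientGroup.mk_mul,
        vstab_ext hF Tr (mul_mem hm₁.1 hm₁.1) (one_mem _)
          (by rw [l, hm₁.2, c₁, mul_one]) (by rw [a, hx₁, c₂, zero_mul, add_zero])
          (by rw [b, hx₁, c₃, zero_mul, add_zero, CharTwo.add_self_eq_zero]), QuotientGroup.mk_one]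
    · have h1 := congrArg (iota hF) h
      rw [map_one, hτdef, iota_mk, QuotientGroup.eq_one_iff] at h1
      have h2 := eq_one_of_two_central hF h1 (rad_pow_four hF Tr hm₁)
      rw [h2, (coord_one hF Tr).2.2] at hs₁
      exact zero_ne_one hs₁
  set xt : L := ψ.symm τ with hxt
  have hxto : orderOf (xt : G) = 2 := by rw [Subgroup.orderOf_coe, hxt, MulEquiv.orderOf_eq, hτ]
  have hcent : ∀ k ∈ Subgroup.centralizer ({(xt : G)} : Set G),
      Φ k ∈ (psiP hF).range := by
    intro k hk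
    obtain ⟨g, σ, hgσ⟩ := exists_semi hF le_rfl h32 (Φ k)
    have hsq : σ * σ = 1 := by
      refine sigma_sq hF he hee (g := g) fun c hc => ?_
      rw [← hgσ]
      obtain ⟨hm₁, -, -⟩ := tv_mem hF Tr hc
      obtain ⟨hm₂, -, -⟩ := tv_mem hF Tr h1c
      set p : Cfsg.PSU 3 F (2 ^ m) := QuotientGroup.mk (suTv 3 e c hee hc hF) with hp
      have hpp : p * p = 1 := by
        apply iota_injective hF
        obtain ⟨hl, hx₁, -⟩ := tv_mem hF Tr hc
        obtain ⟨l, a, b⟩ := coord_mul hF Tr hl.1 hl.1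
        obtain ⟨c₁, c₂, c₃⟩ := coord_one hF Tr
        rw [map_mul, map_one, hp, iota_mk, ← QuotientGroup.mk_mul,
          vstab_ext hF Tr (mul_mem hl.1 hl.1) (one_mem _)
            (by rw [l, hl.2, c₁, mul_one]) (by rw [a, hx₁, c₂, zero_mul, add_zero])
            (by rw [b, hx₁, c₃, zero_mul, add_zero, CharTwo.add_self_eq_zero]),
          QuotientGroup.mk_one]
      have hτ2 : suToGU (suTv 3 e 1 hee h1c hF) * suToGU (suTv 3 e 1 hee h1c hF) = 1 := by
        obtain ⟨hl, hx₁, -⟩ := tv_mem hF Tr h1c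
        obtain ⟨l, a, b⟩ := coord_mul hF Tr hl.1 hl.1
        obtain ⟨c₁, c₂, c₃⟩ := coord_one hF Tr
        exact vstab_ext hF Tr (mul_mem hl.1 hl.1) (one_mem _)
          (by rw [l, hl.2, c₁, mul_one]) (by rw [a, hx₁, c₂, zero_mul, add_zero])
          (by rw [b, hx₁, c₃, zero_mul, add_zero, CharTwo.add_self_eq_zero])
      have hpτ : p * τ = τ * p := by
        apply iota_injective hF
        rw [map_mul, map_mul, hp, hτdef, iota_mk, iota_mk, ← QuotientGroup.mk_mul,
          ← QuotientGroup.mk_mul, central hF Tr hm₂.1 hm₁.1 hτ2]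
      set pl : L := ψ.symm p with hpl
      have hplc : (pl : G) ∈ Subgroup.centralizer ({(xt : G)} : Set G) :=
        Subgroup.mem_centralizer_singleton_iff.2 (by
          rw [hpl, hxt, ← Subgroup.coe_mul, ← Subgroup.coe_mul, ← map_mul, ← map_mul, hpτ])
      have hplsq : (pl : G) * pl = 1 := by
        rw [hpl, ← Subgroup.coe_mul, ← map_mul, hpp, map_one, Subgroup.coe_one]
      have hcomm : (pl : G) * k = k * pl := congrArg Subtype.val
        ((hfacts _ hxto).central ⟨_, hplc⟩ ⟨k, hk⟩ (Subtype.ext hplsq))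
      have hpψ : p = ψ pl := (ψ.apply_symm_apply p).symm
      rw [hpψ, hΦ]
      exact congrArg ψ (Subtype.ext (by
        rw [MulAut.conjNormal_apply, ← hcomm, mul_inv_cancel_right]))
    have hidx : fieldPart hF le_rfl h32 (Φ k) ^ L.index = 1 := by
      rw [← map_pow, ← map_pow]
      obtain ⟨k', hk'⟩ : ∃ k' : L, (k' : G) = k ^ L.index := ⟨⟨_, L.pow_index_mem k⟩, rfl⟩
      rw [← hk', hΦL]
      obtain ⟨s, hs⟩ := QuotientGroup.mk_surjective (ψ k')
      rw [← hs, ← suAut_toGU, fieldPart_apply]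
    rw [hgσ, fieldPart_apply] at hidx
    have hσ : σ = 1 := Invol.eq_one_of_sq_eq_one_of_odd (by rw [sq, hsq])
      (hLodd.of_dvd_nat (orderOf_dvd_of_pow_eq_one hidx))
    exact ⟨QuotientGroup.mk g, by rw [psiP_mk, hgσ, hσ]⟩
  have hall : ∀ g : G, Φ g ∈ (psiP hF).range := by
    intro g
    have hin : ∀ k : L, Φ (k : G) ∈ (psiP hF).range := fun k =>
      ⟨iota hF (ψ k), by rw [psiP_iota, hΦL]⟩
    have hgx : orderOf (g * xt * g⁻¹) = 2 := by rw [Invol.orderOf_conj_eq, hxto]
    have hgL : g * xt * g⁻¹ ∈ L := hLn.conj_mem _ xt.2 g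
    obtain ⟨k, hk⟩ := isConj_iff.1 (StrongEmbed.isConj_of_invols hseL
      (a := xt) (b := ⟨_, hgL⟩) (by rw [← Subgroup.orderOf_coe, hxto])
      (by rw [Subgroup.orderOf_mk, hgx]))
    have hk' : (k : G) * xt * (k : G)⁻¹ = g * xt * g⁻¹ := congrArg Subtype.val hk
    have hc : (k : G)⁻¹ * g ∈ Subgroup.centralizer ({(xt : G)} : Set G) := by
      rw [Subgroup.mem_centralizer_singleton_iff]
      calc (k : G)⁻¹ * g * xt = (k : G)⁻¹ * (g * xt * g⁻¹) * g := by group
        _ = (k : G)⁻¹ * ((k : G) * xt * (k : G)⁻¹) * g := by rw [hk']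
        _ = xt * ((k : G)⁻¹ * g) := by group
    have h := mul_mem (hin k) (hcent _ hc)
    rwa [← map_mul, mul_inv_cancel_left] at h
  let Θ : G →* ↥(Cfsg.GU 3 F (2 ^ m)) ⧸ Subgroup.center ↥(Cfsg.GU 3 F (2 ^ m)) :=
    (MonoidHom.ofInjective (psiP_injective hF)).symm.toMonoidHom.comp (Φ.codRestrict _ hall)
  have hΘ : ∀ g, psiP hF (Θ g) = Φ g := fun g =>
    MonoidHom.apply_ofInjective_symm (psiP_injective hF) _
  have hΘinj : Function.Injective Θ := fun a b h => by
    refine (MonoidHom.ker_eq_bot_iff Φ).1 hker ?_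
    rw [← hΘ a, ← hΘ b, h]
  have hΘL : ∀ k : L, Θ (k : G) = iota hF (ψ k) := fun k =>
    psiP_injective hF (by rw [hΘ, psiP_iota, hΦL])
  -- counting
  set y := Θ (xt : G) with hy
  have hyo : orderOf y = 2 := by rw [hy, orderOf_injective Θ hΘinj, hxto]
  have hsurj2 : ∀ p : ↥(Cfsg.GU 3 F (2 ^ m)) ⧸ Subgroup.center ↥(Cfsg.GU 3 F (2 ^ m)),
      orderOf p = 2 → ∃ k : G, orderOf k = 2 ∧ Θ k = p := fun p hp => by
    obtain ⟨r, hr⟩ := range_of_sq hF (Invol.mul_self_eq_one hp)
    have h : Θ ((ψ.symm r : L) : G) = p := by rw [hΘL, MulEquiv.apply_symm_apply, hr]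
    exact ⟨_, by rw [← orderOf_injective Θ hΘinj, h, hp], h⟩
  have hGcount := card_orbit_mul (⊤ : Subgroup G) (xt : G) (fun k => orderOf k = 2) fun k =>
    ⟨fun hk => by
      obtain ⟨c, hc⟩ := isConj_iff.1 (hconj _ _ hxto hk)
      exact ⟨c, Subgroup.mem_top c, hc⟩,
     fun ⟨c, _, hc⟩ => by rw [← hc, Invol.orderOf_conj_eq, hxto]⟩
  have hPcount := card_orbit_mul
    (⊤ : Subgroup (↥(Cfsg.GU 3 F (2 ^ m)) ⧸ Subgroup.center ↥(Cfsg.GU 3 F (2 ^ m)))) y
    (fun k => orderOf k = 2) fun k =>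
    ⟨fun hk => by
      obtain ⟨k', hk', rfl⟩ := hsurj2 k hk
      obtain ⟨c, hc⟩ := isConj_iff.1 (hconj _ _ hxto hk')
      exact ⟨Θ c, Subgroup.mem_top _, by rw [hy, ← map_inv, ← map_mul, ← map_mul, hc]⟩,
     fun ⟨c, _, hc⟩ => by rw [← hc, Invol.orderOf_conj_eq, hyo]⟩
  rw [inf_top_eq, Subgroup.card_top] at hGcount hPcount
  have hI : Nat.card {k : G // orderOf k = 2} =
      Nat.card {p : ↥(Cfsg.GU 3 F (2 ^ m)) ⧸ Subgroup.center ↥(Cfsg.GU 3 F (2 ^ m)) //
        orderOf p = 2} :=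
    Nat.card_congr (Equiv.ofBijective
      (fun k => ⟨Θ k.1, by rw [orderOf_injective Θ hΘinj, k.2]⟩)
      ⟨fun a b h => Subtype.ext (hΘinj (congrArg Subtype.val h)), fun p => by
        obtain ⟨k, hk, hkp⟩ := hsurj2 p.1 p.2
        exact ⟨⟨k, hk⟩, Subtype.ext hkp⟩⟩)
  obtain ⟨E⟩ := hC (xt : G) y hxto hyo
  refine ⟨MulEquiv.ofBijective Θ ((Nat.bijective_iff_injective_and_card Θ).2 ⟨hΘinj, ?_⟩)⟩
  rw [← hGcount, ← hPcount, hI, Nat.card_congr E.toEquiv]

end CfsgLib.PGU3Char
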