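import Cfsg.Agent.AutPSU.Out
import Cfsg.Agent.Invol.U3Center

/-!
`PGU₃(q)` for even `q`: the centralizer of an involution is the stabilizer of an isotropic vector.
Its elements of 2-power order form a normal subgroup of order `q³` with `q - 1` involutions, all
central, and it has no nontrivial normal subgroup of odd order.
-/

set_option autoImplicit false
set_option linter.unusedSectionVars false
set_option linter.style.haveILetI false

namespace CfsgLib.PGU3Char

open Matrix CfsgLib.Unitary CfsgLib.AutPSU CfsgLib.Forms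

/-- What is used about the centralizer of an involution. -/
structure CentFacts (C : Type*) [Group C] (q : ℕ) : Prop where
  two_closed : ∃ U : Subgroup C, U.Normal ∧ IsPGroup 2 U ∧ Nat.card U = q ^ 3 ∧
    ∀ g : C, (∃ i : ℕ, g ^ 2 ^ i = 1) → g ∈ U
  central : ∀ g h : C, g * g = 1 → g * h = h * g
  card_sq : Nat.card {g : C // g * g = 1} = q
  odd_normal : ∀ N : Subgroup C, N.Normal → Odd (Nat.card N) → N = ⊥

/-- The facts only depend on the isomorphism type. -/
theorem CentFacts.congr {C D : Type*} [Group C] [Group D] {q : ℕ} (h : CentFacts C q)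
    (e : C ≃* D) : CentFacts D q := by
  obtain ⟨U, hn, hU, hc, hmem⟩ := h.two_closed
  refine ⟨⟨U.map e.toMonoidHom, hn.map _ e.surjective, hU.map _,
    by rw [Subgroup.card_map_of_injective (f := e.toMonoidHom) e.injective, hc], ?_⟩, ?_, ?_, ?_⟩
  · rintro g ⟨i, hi⟩
    exact ⟨e.symm g, hmem _ ⟨i, by rw [← map_pow, hi, map_one]⟩, e.apply_symm_apply g⟩
  · intro g k hg
    apply e.symm.injective
    rw [map_mul, map_mul]
    exact h.central _ _ (by rw [← map_mul, hg, map_one])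
  · rw [← h.card_sq]
    exact Nat.card_congr (e.toEquiv.subtypeEquiv fun g => by
      show g * g = 1 ↔ e g * e g = 1
      rw [← map_mul, map_eq_one_iff e e.injective]).symm
  · intro N hN hodd
    have hinj : Function.Injective e.toMonoidHom := e.injective
    have h1 := h.odd_normal (N.comap e.toMonoidHom) inferInstance (hodd.of_dvd_nat
      (dvd_of_eq (by rw [← Subgroup.card_map_of_injective hinj,
        Subgroup.map_comap_eq_self_of_surjective e.surjective])))
    rw [← Subgroup.map_comap_eq_self_of_surjective (f := e.toMonoidHom) e.surjective N, h1,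
      Subgroup.map_bot]

variable {F : Type*} [Field F] [Finite F] {q : ℕ}

local notation "hf" => Cfsg.hermForm _ _

/-- The matrix of an element of `GU₃`. -/
abbrev mt (g : ↥(Cfsg.GU 3 F q)) : Matrix (Fin 3) (Fin 3) F :=
  ((g : GL (Fin 3) F) : Matrix (Fin 3) (Fin 3) F)

/-- A hyperbolic pair and a unit vector orthogonal to it. -/
structure Tri (q : ℕ) (e f u : Fin 3 → F) : Prop where
  H : Hyp q e f
  ue : hf q u e = 0
  uf : hf q u f = 0
  uu : hf q u u = 1
  expand : ∀ x, x = hf q x f • e + hf q x e • f + hf q x u • u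

variable (hF : Nat.card F = q ^ 2)
include hF

theorem exists_tri {v : Fin 3 → F} (hv : v ≠ 0) (hv0 : hf q v v = 0) : ∃ f u, Tri q v f u := by
  obtain ⟨f, H⟩ := exists_hyp hF hv hv0
  obtain ⟨d, hd, b, Fr⟩ := exists_frame hF H
  obtain rfl : d = 1 := by omega
  refine ⟨f, b 0, H, (Fr.inW 0).1, (Fr.inW 0).2, by rw [Fr.on, if_pos rfl], fun x => ?_⟩
  have := Fr.expand x
  rwa [Fin.sum_univ_one] at this

/-- A scalar element whose 2-power is trivial is trivial. -/
theorem eq_one_of_two_central [CharP F 2] {g : ↥(Cfsg.GU 3 F q)}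
    (hg : g ∈ Subgroup.center ↥(Cfsg.GU 3 F q)) {i : ℕ} (hi : g ^ 2 ^ i = 1) : g = 1 := by
  haveI : Fact (Nat.Prime 2) := ⟨Nat.prime_two⟩
  obtain ⟨a, ha⟩ := center_GU_scalar hF (by norm_num) hg
  have h1 : (a • (1 : Matrix (Fin 3) (Fin 3) F)) ^ 2 ^ i = 1 := by
    rw [← ha, ← Units.val_pow_eq_pow_val, ← Subgroup.coe_pow, hi]; rfl
  rw [smul_pow, one_pow] at h1
  have h2 : a ^ 2 ^ i = 1 := by simpa using congrFun (congrFun h1 0) 0
  have h3 : a = 1 := by
    have h4 : (a - 1) ^ 2 ^ i = 0 := by rw [sub_pow_char_pow, h2, one_pow, sub_self]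
    exact sub_eq_zero.1 (pow_eq_zero_iff (by positivity) |>.1 h4)
  refine Subtype.ext (Units.ext ?_)
  rw [ha, h3, one_smul]
  rfl

omit [Finite F] hF in
/-- The stabilizer of a vector in `GU₃`. -/
def vstab (e : Fin 3 → F) : Subgroup ↥(Cfsg.GU 3 F q) where
  carrier := {g | mt g *ᵥ e = e}
  one_mem' := by
    show mt 1 *ᵥ e = e
    exact Matrix.one_mulVec e
  mul_mem' := fun {g h} (hg : mt g *ᵥ e = e) (hh : mt h *ᵥ e = e) => by
    show mt (g * h) *ᵥ e = e
    rw [show mt (g * h) = mt g * mt h from rfl, ← Matrix.mulVec_mulVec, hh, hg]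
  inv_mem' := fun {g} (hg : mt g *ᵥ e = e) => by
    show mt g⁻¹ *ᵥ e = e
    conv_lhs => rw [← hg]
    rw [Matrix.mulVec_mulVec, show mt g⁻¹ * mt g = mt (g⁻¹ * g) from rfl, inv_mul_cancel]
    exact Matrix.one_mulVec e

variable {e f u : Fin 3 → F} (T : Tri q e f u)
include T

/-- The coefficient on `u`. -/
def lam (_ : Tri q e f u) (g : ↥(Cfsg.GU 3 F q)) : F := hf q (mt g *ᵥ u) u

/-- The radical coordinate. -/
def xc (_ : Tri q e f u) (g : ↥(Cfsg.GU 3 F q)) : F := hf q (mt g *ᵥ f) u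

/-- The central coordinate. -/
def sc (_ : Tri q e f u) (g : ↥(Cfsg.GU 3 F q)) : F := hf q (mt g *ᵥ f) f

theorem eu : hf q e u = 0 := hf_swap_zero hF T.ue

theorem fu : hf q f u = 0 := hf_swap_zero hF T.uf

theorem image_f {g : ↥(Cfsg.GU 3 F q)} (hg : g ∈ vstab e) :
    mt g *ᵥ f = sc T g • e + f + xc T g • u := by
  have h : hf q (mt g *ᵥ f) e = 1 := by
    have h1 := gu_preserves g f e
    rw [show mt g *ᵥ e = e from hg, T.H.fe hF] at h1
    exact h1
  have := T.expand (mt g *ᵥ f)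
  rwa [h, one_smul] at this

theorem image_u {g : ↥(Cfsg.GU 3 F q)} (hg : g ∈ vstab e) :
    mt g *ᵥ u = hf q (mt g *ᵥ u) f • e + lam T g • u := by
  have h : hf q (mt g *ᵥ u) e = 0 := by
    have h1 := gu_preserves g u e
    rw [show mt g *ᵥ e = e from hg, T.ue] at h1
    exact h1
  have := T.expand (mt g *ᵥ u)
  rwa [h, zero_smul, add_zero] at this

theorem lam_norm {g : ↥(Cfsg.GU 3 F q)} (hg : g ∈ vstab e) : lam T g * lam T g ^ q = 1 := by
  have h := gu_preserves g u u
  rw [image_u hF T hg, T.uu] at h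
  simp only [herm_add_left, herm_add_right hF, herm_smul_left, herm_smul_right hF, T.H.ee,
    eu hF T, T.ue, T.uu] at h
  linear_combination h

theorem image_u' [CharP F 2] {g : ↥(Cfsg.GU 3 F q)} (hg : g ∈ vstab e) :
    hf q (mt g *ᵥ u) f = lam T g * xc T g ^ q := by
  have h := gu_preserves g u f
  rw [image_f hF T hg, T.uf, image_u hF T hg] at h
  simp only [herm_add_left, herm_add_right hF, herm_smul_left, herm_smul_right hF, T.H.ee,
    eu hF T, T.ue, T.uu, T.H.ef, T.uf] at h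
  have h' : hf q (mt g *ᵥ u) f + lam T g * xc T g ^ q = 0 := by linear_combination h
  exact CharTwo.add_eq_zero.1 h'

theorem isotropic_f {g : ↥(Cfsg.GU 3 F q)} (hg : g ∈ vstab e) :
    sc T g + sc T g ^ q + xc T g * xc T g ^ q = 0 := by
  have h := gu_preserves g f f
  rw [T.H.ff, image_f hF T hg] at h
  simp only [herm_add_left, herm_add_right hF, herm_smul_left, herm_smul_right hF, T.H.ee,
    eu hF T, T.ue, T.uu, T.H.ef, T.uf, fu hF T, T.H.fe hF, T.H.ff] at h
  linear_combination h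

/-- An element of the stabilizer is determined by its three coordinates. -/
theorem vstab_ext [CharP F 2] {g h : ↥(Cfsg.GU 3 F q)} (hg : g ∈ vstab e) (hh : h ∈ vstab e)
    (h1 : lam T g = lam T h) (h2 : xc T g = xc T h) (h3 : sc T g = sc T h) : g = h := by
  refine Subtype.ext (Units.ext (Matrix.ext_iff_mulVec.2 fun x => ?_))
  show mt g *ᵥ x = mt h *ᵥ x
  rw [T.expand x]
  simp only [Matrix.mulVec_add, Matrix.mulVec_smul]
  rw [show mt g *ᵥ e = e from hg, show mt h *ᵥ e = e from hh, image_f hF T hg, image_f hF T hh,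
    image_u hF T hg, image_u hF T hh, image_u' hF T hg, image_u' hF T hh, h1, h2, h3]

theorem coord_mul [CharP F 2] {g h : ↥(Cfsg.GU 3 F q)} (hg : g ∈ vstab e) (hh : h ∈ vstab e) :
    lam T (g * h) = lam T h * lam T g ∧ xc T (g * h) = xc T g + xc T h * lam T g ∧
      sc T (g * h) = sc T h + sc T g + xc T h * (lam T g * xc T g ^ q) := by
  have hu : mt (g * h) *ᵥ u = mt g *ᵥ (mt h *ᵥ u) := (Matrix.mulVec_mulVec u _ _).symm
  have hf' : mt (g * h) *ᵥ f = mt g *ᵥ (mt h *ᵥ f) := (Matrix.mulVec_mulVec f _ _).symm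
  rw [image_u hF T hh, Matrix.mulVec_add, Matrix.mulVec_smul, Matrix.mulVec_smul,
    show mt g *ᵥ e = e from hg, image_u hF T hg] at hu
  rw [image_f hF T hh, Matrix.mulVec_add, Matrix.mulVec_add, Matrix.mulVec_smul,
    Matrix.mulVec_smul, show mt g *ᵥ e = e from hg, image_u hF T hg, image_f hF T hg,
    image_u' hF T hg] at hf'
  refine ⟨?_, ?_, ?_⟩
  · show hf q (mt (g * h) *ᵥ u) u = _
    rw [hu]
    simp only [herm_add_left, herm_smul_left, eu hF T, T.uu]
    ring
  · show hf q (mt (g * h) *ᵥ f) u = _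
    rw [hf']
    simp only [herm_add_left, herm_smul_left, eu hF T, fu hF T, T.uu]
    ring
  · show hf q (mt (g * h) *ᵥ f) f = _
    rw [hf']
    simp only [herm_add_left, herm_smul_left, T.H.ef, T.H.ff, T.uf]
    ring

theorem coord_one : lam T 1 = 1 ∧ xc T 1 = 0 ∧ sc T 1 = 0 := by
  have h : ∀ x, mt (1 : ↥(Cfsg.GU 3 F q)) *ᵥ x = x := Matrix.one_mulVec
  exact ⟨by rw [lam, h, T.uu], by rw [xc, h, fu hF T], by rw [sc, h, T.H.ff]⟩

theorem mem_two [CharP F 2] {g : ↥(Cfsg.GU 3 F q)} (hg : g ∈ vstab e) {i : ℕ}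
    (hi : g ^ 2 ^ i = 1) : lam T g = 1 := by
  haveI : Fact (Nat.Prime 2) := ⟨Nat.prime_two⟩
  have hp : ∀ n : ℕ, lam T (g ^ n) = lam T g ^ n := by
    intro n
    induction n with
    | zero => rw [pow_zero, pow_zero, (coord_one hF T).1]
    | succ n ih => rw [pow_succ, (coord_mul hF T (pow_mem hg n) hg).1, ih, pow_succ, mul_comm]
  have h := hp (2 ^ i)
  rw [hi, (coord_one hF T).1] at h
  have h4 : (lam T g - 1) ^ 2 ^ i = 0 := by rw [sub_pow_char_pow, ← h, one_pow, sub_self]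
  exact sub_eq_zero.1 (pow_eq_zero_iff (by positivity) |>.1 h4)

/-- The unipotent radical. -/
def rad [CharP F 2] : Subgroup ↥(Cfsg.GU 3 F q) where
  carrier := {g | g ∈ vstab e ∧ lam T g = 1}
  one_mem' := ⟨one_mem _, (coord_one hF T).1⟩
  mul_mem' := fun {g h} hg hh => ⟨mul_mem hg.1 hh.1, by
    rw [(coord_mul hF T hg.1 hh.1).1, hg.2, hh.2, mul_one]⟩
  inv_mem' := fun {g} hg => ⟨inv_mem hg.1, by
    have h := (coord_mul hF T hg.1 (inv_mem hg.1)).1
    rw [mul_inv_cancel, (coord_one hF T).1, hg.2, mul_one] at h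
    exact h.symm⟩

theorem mem_rad [CharP F 2] {g : ↥(Cfsg.GU 3 F q)} :
    g ∈ rad hF T ↔ g ∈ vstab e ∧ lam T g = 1 := Iff.rfl

theorem rad_pow_four [CharP F 2] {g : ↥(Cfsg.GU 3 F q)} (hg : g ∈ rad hF T) :
    g ^ (2 ^ 2) = 1 := by
  obtain ⟨l1, x1, -⟩ := coord_mul hF T hg.1 hg.1
  rw [hg.2, mul_one] at l1 x1
  rw [CharTwo.add_self_eq_zero] at x1
  have hgg := mul_mem hg.1 hg.1
  obtain ⟨l2, x2, s2⟩ := coord_mul hF T hgg hgg
  rw [l1, mul_one] at l2
  rw [x1, l1, zero_mul, add_zero] at x2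
  rw [x1, zero_mul, add_zero, CharTwo.add_self_eq_zero] at s2
  have e4 : g ^ (2 ^ 2) = g * g * (g * g) := by
    simp only [show 2 ^ 2 = 3 + 1 from rfl, pow_succ, pow_zero, one_mul, mul_assoc]
  rw [e4]
  obtain ⟨a, b, c⟩ := coord_one hF T
  exact vstab_ext hF T (mul_mem hgg hgg) (one_mem _) (by rw [l2, a]) (by rw [x2, b])
    (by rw [s2, c])

theorem sq_one [CharP F 2] {g : ↥(Cfsg.GU 3 F q)} (hg : g ∈ vstab e) (h : g * g = 1) :
    lam T g = 1 ∧ xc T g = 0 ∧ sc T g ^ q = sc T g := by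
  have hl := mem_two hF T hg (i := 1) (by rw [pow_one, sq, h])
  obtain ⟨-, -, s1⟩ := coord_mul hF T hg hg
  rw [h, (coord_one hF T).2.2, CharTwo.add_self_eq_zero, zero_add, hl, one_mul] at s1
  have hx : xc T g = 0 := by
    rcases mul_eq_zero.1 s1.symm with h0 | h0
    · exact h0
    · exact pow_eq_zero_iff (by have := two_le_q hF; omega) |>.1 h0
  have hi := isotropic_f hF T hg
  rw [hx, zero_mul, add_zero] at hi
  exact ⟨hl, hx, (CharTwo.add_eq_zero.1 hi).symm⟩

theorem central [CharP F 2] {g h : ↥(Cfsg.GU 3 F q)} (hg : g ∈ vstab e) (hh : h ∈ vstab e)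
    (h2 : g * g = 1) : g * h = h * g := by
  obtain ⟨hl, hx, -⟩ := sq_one hF T hg h2
  obtain ⟨a, b, c⟩ := coord_mul hF T hg hh
  obtain ⟨a', b', c'⟩ := coord_mul hF T hh hg
  refine vstab_ext hF T (mul_mem hg hh) (mul_mem hh hg) ?_ ?_ ?_
  · rw [a, a']; ring
  · rw [b, b', hl, hx]; ring
  · rw [c, c', hl, hx, zero_pow (by have := two_le_q hF; omega)]; ring

/-- Elements with prescribed coordinate on `u`. -/
theorem exists_xc [CharP F 2] (x : F) : ∃ g ∈ rad hF T, xc T g = x := by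
  have ha : InW q e f (x • u) := by
    constructor
    · show hf q (x • u) e = 0
      rw [herm_smul_left, T.ue, mul_zero]
    · show hf q (x • u) f = 0
      rw [herm_smul_left, T.uf, mul_zero]
  obtain ⟨A, -, s, hA⟩ := exists_radical_elem hF T.H ha
  have hM : mt (suToGU A) = eichMat q e (x • u) s := hA
  refine ⟨suToGU A, ⟨?_, ?_⟩, ?_⟩
  · show mt (suToGU A) *ᵥ e = e
    rw [hM, eichMat_mulVec T.H.ee, T.H.ee, herm_smul_right hF, eu hF T]
    simp
  · show hf q (mt (suToGU A) *ᵥ u) u = 1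
    rw [hM, eichMat_mulVec T.H.ee, T.ue, herm_smul_right hF, T.uu]
    simp only [herm_add_left, herm_smul_left, T.uu, eu hF T, zero_mul, mul_zero, add_zero]
  · show hf q (mt (suToGU A) *ᵥ f) u = x
    rw [hM, eichMat_apply_f hF T.H ha]
    simp [herm_add_left, herm_smul_left, fu hF T, T.uu, eu hF T]

theorem tv_mem [CharP F 2] {c : F} (hc : c + c ^ q = 0) :
    suToGU (suTv 3 e c T.H.ee hc hF) ∈ rad hF T ∧
      xc T (suToGU (suTv 3 e c T.H.ee hc hF)) = 0 ∧ sc T (suToGU (suTv 3 e c T.H.ee hc hF)) = c := by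
  have hM : mt (suToGU (suTv 3 e c T.H.ee hc hF)) = Cfsg.unitaryTransvection 3 q e c := rfl
  refine ⟨⟨?_, ?_⟩, ?_, ?_⟩
  · show mt _ *ᵥ e = e
    rw [hM, utv_mulVec, T.H.ee, mul_zero, zero_smul, add_zero]
  · rw [lam, hM, utv_mulVec, T.ue, mul_zero, zero_smul, add_zero, T.uu]
  · rw [xc, hM, utv_mulVec]
    simp [herm_add_left, herm_smul_left, fu hF T, eu hF T]
  · rw [sc, hM, utv_mulVec]
    simp [herm_add_left, herm_smul_left, T.H.ff, T.H.ef, T.H.fe hF]

theorem card_sq_one [CharP F 2] : Nat.card {g : vstab (q := q) e // g * g = 1} = q := by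
  refine (Nat.card_congr ?_).trans (Invol.U3Center.card_fixed hF)
  refine
    { toFun := fun g => ⟨sc T g.1.1, (sq_one hF T g.1.2 (congrArg Subtype.val g.2)).2.2⟩
      invFun := fun c =>
        ⟨⟨suToGU (suTv 3 e c.1 T.H.ee (by rw [c.2, CharTwo.add_self_eq_zero]) hF),
          (tv_mem hF T _).1.1⟩, Subtype.ext ?_⟩
      left_inv := fun g => ?_
      right_inv := fun c => Subtype.ext (tv_mem hF T _).2.2 }
  · have hc : c.1 + c.1 ^ q = 0 := by rw [c.2, CharTwo.add_self_eq_zero]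
    obtain ⟨hm, hx, -⟩ := tv_mem hF T hc
    show suToGU (suTv 3 e c.1 T.H.ee hc hF) * suToGU (suTv 3 e c.1 T.H.ee hc hF) = 1
    obtain ⟨l, x, s⟩ := coord_mul hF T hm.1 hm.1
    obtain ⟨a, b, d⟩ := coord_one hF T
    exact vstab_ext hF T (mul_mem hm.1 hm.1) (one_mem _) (by rw [l, hm.2, a, mul_one])
      (by rw [x, hx, b, zero_mul, add_zero])
      (by rw [s, hx, d, zero_mul, add_zero, CharTwo.add_self_eq_zero])
  · obtain ⟨hl, hx, hs⟩ := sq_one hF T g.1.2 (congrArg Subtype.val g.2)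
    have hc : sc T g.1.1 + sc T g.1.1 ^ q = 0 := by rw [hs, CharTwo.add_self_eq_zero]
    obtain ⟨hm, hx', hs'⟩ := tv_mem hF T hc
    exact Subtype.ext (Subtype.ext
      (vstab_ext hF T hm.1 g.1.2 (hm.2.trans hl.symm) (hx'.trans hx.symm) hs'))

theorem card_rad [CharP F 2] : Nat.card (rad hF T) = q ^ 3 := by
  let φ : rad hF T →* Multiplicative F :=
    MonoidHom.mk' (fun g => Multiplicative.ofAdd (xc T g.1)) fun g h => by
      show Multiplicative.ofAdd (xc T (g.1 * h.1)) = _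
      rw [(coord_mul hF T g.2.1 h.2.1).2.1, g.2.2, mul_one, ofAdd_add]
  have hsurj : Function.Surjective φ := fun x => by
    obtain ⟨g, hg, hx⟩ := exists_xc hF T (Multiplicative.toAdd x)
    exact ⟨⟨g, hg⟩, congrArg Multiplicative.ofAdd hx⟩
  have e : φ.ker ≃ {g : vstab (q := q) e // g * g = 1} :=
    { toFun := fun g => ⟨⟨g.1.1, g.1.2.1⟩, Subtype.ext (by
        obtain ⟨l, x, s⟩ := coord_mul hF T g.1.2.1 g.1.2.1
        have hx : xc T g.1.1 = 0 := congrArg Multiplicative.toAdd g.2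
        obtain ⟨a, b, d⟩ := coord_one hF T
        show g.1.1 * g.1.1 = 1
        exact vstab_ext hF T (mul_mem g.1.2.1 g.1.2.1) (one_mem _)
          (by rw [l, g.1.2.2, a, mul_one]) (by rw [x, hx, b, zero_mul, add_zero])
          (by rw [s, hx, d, zero_mul, add_zero, CharTwo.add_self_eq_zero]))⟩
      invFun := fun g => ⟨⟨g.1.1, g.1.2, (sq_one hF T g.1.2 (congrArg Subtype.val g.2)).1⟩,
        congrArg Multiplicative.ofAdd (sq_one hF T g.1.2 (congrArg Subtype.val g.2)).2.1⟩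
      left_inv := fun _ => rfl
      right_inv := fun _ => rfl }
  have h := φ.ker.card_mul_index
  rw [Nat.card_congr e, card_sq_one hF T, φ.ker.index_eq_card,
    Nat.card_congr (QuotientGroup.quotientKerEquivOfSurjective φ hsurj).toEquiv,
    Nat.card_congr Multiplicative.toAdd, hF] at h
  rw [← h]; ring

/-- An element centralizing an element with `xc = 1` is in the radical. -/
theorem lam_eq_one_of_commute [CharP F 2] {g A : ↥(Cfsg.GU 3 F q)} (hg : g ∈ vstab e)
    (hA : A ∈ rad hF T) (hx : xc T A = 1) (hc : g * A = A * g) : lam T g = 1 := by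
  have h1 := (coord_mul hF T hg hA.1).2.1
  have h2 := (coord_mul hF T hA.1 hg).2.1
  rw [hc, h2, hA.2, hx] at h1
  linear_combination -h1

theorem cent_facts [CharP F 2] : CentFacts (vstab (q := q) e) q := by
  have hR : rad hF T ≤ vstab e := fun g hg => hg.1
  have hpg : IsPGroup 2 ((rad hF T).subgroupOf (vstab e)) := fun g => ⟨2, Subtype.ext
    (Subtype.ext (rad_pow_four hF T g.2))⟩
  have hn : ((rad hF T).subgroupOf (vstab e)).Normal := ⟨fun g hg k => by
    refine Subgroup.mem_subgroupOf.2 ⟨(k * g * k⁻¹).2, ?_⟩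
    show lam T (k.1 * g.1 * k.1⁻¹) = 1
    have hk := (coord_mul hF T k.2 (inv_mem k.2)).1
    rw [mul_inv_cancel, (coord_one hF T).1] at hk
    rw [(coord_mul hF T (mul_mem k.2 g.2) (inv_mem k.2)).1, (coord_mul hF T k.2 g.2).1,
      show lam T g.1 = 1 from hg.2, one_mul, ← hk]⟩
  refine ⟨⟨_, hn, hpg, ?_, ?_⟩, ?_, card_sq_one hF T, ?_⟩
  · rw [Nat.card_congr (Subgroup.subgroupOfEquivOfLe hR).toEquiv, card_rad hF T]
  · rintro g ⟨i, hi⟩
    exact Subgroup.mem_subgroupOf.2 ⟨g.2, mem_two hF T g.2 (congrArg Subtype.val hi)⟩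
  · exact fun g h hg => Subtype.ext (central hF T g.2 h.2 (congrArg Subtype.val hg))
  · intro N hN hodd
    obtain ⟨A, hA, hx⟩ := exists_xc hF T 1
    refine (Subgroup.eq_bot_iff_forall _).2 fun g hg => ?_
    have hd : Disjoint N ((rad hF T).subgroupOf (vstab e)) := Subgroup.disjoint_def.2 fun {k} hk hkR => by
      obtain ⟨j, hj⟩ := hpg ⟨k, hkR⟩
      refine orderOf_eq_one_iff.1 (Nat.eq_one_of_dvd_coprimes
        ((Nat.coprime_two_left.2 hodd).pow_left j)
        (orderOf_dvd_of_pow_eq_one (congrArg Subtype.val hj)) (Subgroup.orderOf_dvd_natCard _ hk))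
    have hc := Subgroup.commute_of_normal_of_disjoint N _ hN hn hd g ⟨A, hA.1⟩ hg
      (Subgroup.mem_subgroupOf.2 hA)
    exact Subgroup.disjoint_def.1 hd hg (Subgroup.mem_subgroupOf.2
      ⟨g.2, lam_eq_one_of_commute hF T g.2 hA hx (congrArg Subtype.val hc.eq)⟩)

omit T in
/-- An involution of `PGU₃(q)` is the image of a transvection. -/
theorem exists_tv [CharP F 2] {y : ↥(Cfsg.GU 3 F q) ⧸ Subgroup.center ↥(Cfsg.GU 3 F q)}
    (hy : orderOf y = 2) : ∃ (v : Fin 3 → F) (c : F) (hv0 : hf q v v = 0) (hc : c + c ^ q = 0),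
      v ≠ 0 ∧ c ≠ 0 ∧ y = QuotientGroup.mk (suToGU (suTv 3 v c hv0 hc hF)) := by
  obtain ⟨A₀, rfl⟩ := QuotientGroup.mk_surjective y
  obtain ⟨i, r, hr, hAr⟩ := Nat.exists_eq_two_pow_mul_odd (orderOf_pos A₀).ne'
  set A := A₀ ^ r with hAdef
  have hA2 : A ^ 2 ^ i = 1 := by rw [← pow_mul, mul_comm, ← hAr, pow_orderOf_eq_one]
  have hy2 : (A₀ : ↥(Cfsg.GU 3 F q) ⧸ Subgroup.center ↥(Cfsg.GU 3 F q)) ^ 2 = 1 := by
    rw [← hy, pow_orderOf_eq_one]
  have hyA : (A : ↥(Cfsg.GU 3 F q) ⧸ Subgroup.center ↥(Cfsg.GU 3 F q)) = A₀ := by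
    obtain ⟨l, rfl⟩ := hr
    rw [hAdef, QuotientGroup.mk_pow, pow_succ, pow_mul, hy2, one_pow, one_mul]
  have hAA : A * A = 1 := by
    refine eq_one_of_two_central hF (i := i) ((QuotientGroup.eq_one_iff _).1 ?_) ?_
    · rw [QuotientGroup.mk_mul, hyA, ← sq, hy2]
    · rw [← sq, ← pow_mul, mul_comm, pow_mul, hA2, one_pow]
  have hA1 : A ≠ 1 := fun h => by
    rw [← hyA, h, QuotientGroup.mk_one, orderOf_one] at hy
    exact absurd hy (by decide)
  have hAAx : ∀ x, mt A *ᵥ (mt A *ᵥ x) = x := fun x => by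
    rw [Matrix.mulVec_mulVec, show mt A * mt A = mt (A * A) from rfl, hAA]
    exact Matrix.one_mulVec x
  obtain ⟨x₀, hx₀⟩ : ∃ x, mt A *ᵥ x + x ≠ 0 := by
    by_contra hcon
    push Not at hcon
    refine hA1 (Subtype.ext (Units.ext (Matrix.ext_iff_mulVec.2 fun x => ?_)))
    show mt A *ᵥ x = (1 : Matrix (Fin 3) (Fin 3) F) *ᵥ x
    rw [Matrix.one_mulVec]
    funext k
    exact CharTwo.add_eq_zero.1 (congrFun (hcon x) k)
  have hperp : ∀ x y, hf q (mt A *ᵥ x + x) (mt A *ᵥ y + y) = 0 := fun x y => by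
    have h : hf q x (mt A *ᵥ y) = hf q (mt A *ᵥ x) y := by
      conv_lhs => rw [← hAAx x]
      exact gu_preserves A _ _
    rw [herm_add_left, herm_add_right hF, herm_add_right hF, h,
      show hf q (mt A *ᵥ x) (mt A *ᵥ y) = hf q x y from gu_preserves A x y]
    linear_combination CharTwo.add_self_eq_zero (hf q x y + hf q (mt A *ᵥ x) y)
  set v := mt A *ᵥ x₀ + x₀ with hv
  have hv0 : hf q v v = 0 := hperp x₀ x₀
  obtain ⟨f, u, T⟩ := exists_tri hF hx₀ hv0
  have hAv : A ∈ vstab v := by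
    show mt A *ᵥ v = v
    rw [hv, Matrix.mulVec_add, hAAx, add_comm]
  obtain ⟨hl, hx, hs⟩ := sq_one hF T hAv hAA
  have hc : sc T A + sc T A ^ q = 0 := by rw [hs, CharTwo.add_self_eq_zero]
  obtain ⟨hm, hx', hs'⟩ := tv_mem hF T hc
  have hAeq := vstab_ext hF T hAv hm.1 (hl.trans hm.2.symm) (hx.trans hx'.symm) hs'.symm
  refine ⟨v, sc T A, hv0, hc, hx₀, fun h => hA1 ?_, ?_⟩
  · obtain ⟨a, b, d⟩ := coord_one hF T
    exact vstab_ext hF T hAv (one_mem _) (hl.trans a.symm) (hx.trans b.symm) (h.trans d.symm)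
  · rw [← hyA, ← hAeq]

omit T in
/-- The centralizers of involutions of `PGU₃(q)`. -/
theorem cent_facts_pgu [CharP F 2] {y : ↥(Cfsg.GU 3 F q) ⧸ Subgroup.center ↥(Cfsg.GU 3 F q)}
    (hy : orderOf y = 2) : CentFacts (Subgroup.centralizer ({y} : Set _)) q := by
  obtain ⟨v, c, hv0, hc, hv, hc0, rfl⟩ := exists_tv hF hy
  obtain ⟨f, u, T⟩ := exists_tri hF hv hv0
  set A := suToGU (suTv 3 v c hv0 hc hF) with hA
  obtain ⟨hm, hxA, hsA⟩ := tv_mem hF T hc
  have hAA : A * A = 1 := by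
    obtain ⟨l, x, s⟩ := coord_mul hF T hm.1 hm.1
    obtain ⟨a, b, d⟩ := coord_one hF T
    exact vstab_ext hF T (mul_mem hm.1 hm.1) (one_mem _) (by rw [l, hm.2, a, mul_one])
      (by rw [x, hxA, b, zero_mul, add_zero])
      (by rw [s, hxA, d, zero_mul, add_zero, CharTwo.add_self_eq_zero])
  let π : ↥(vstab (q := q) v) →* ↥(Cfsg.GU 3 F q) ⧸ Subgroup.center ↥(Cfsg.GU 3 F q) :=
    (QuotientGroup.mk' _).comp (vstab v).subtype
  have hinj : Function.Injective π := (injective_iff_map_eq_one π).2 fun g hg => by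
    obtain ⟨a, ha⟩ := center_GU_scalar hF (by norm_num) ((QuotientGroup.eq_one_iff _).1 hg)
    have h1 : mt g.1 *ᵥ v = v := g.2
    rw [show mt g.1 = a • 1 from ha, Matrix.smul_mulVec, Matrix.one_mulVec] at h1
    obtain rfl : a = 1 := by
      by_contra h
      exact hv (smul_eq_zero.1 (show (a - 1) • v = 0 by rw [sub_smul, h1, one_smul, sub_self]) |>.resolve_left
        (sub_ne_zero.2 h))
    refine Subtype.ext (Subtype.ext (Units.ext ?_))
    show mt g.1 = (1 : Matrix (Fin 3) (Fin 3) F)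
    rw [show mt g.1 = (1 : F) • 1 from ha, one_smul]
  have hrange : π.range = Subgroup.centralizer ({(A : ↥(Cfsg.GU 3 F q) ⧸
      Subgroup.center ↥(Cfsg.GU 3 F q))} : Set _) := by
    ext z
    constructor
    · rintro ⟨g, rfl⟩
      rw [Subgroup.mem_centralizer_singleton_iff]
      show (QuotientGroup.mk g.1 : _ ⧸ _) * _ = _ * QuotientGroup.mk g.1
      rw [← QuotientGroup.mk_mul, ← QuotientGroup.mk_mul, central hF T hm.1 g.2 hAA]
    · intro hz
      obtain ⟨g, rfl⟩ := QuotientGroup.mk_surjective z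
      rw [Subgroup.mem_centralizer_singleton_iff] at hz
      have hcomm : g * A * g⁻¹ = A := by
        refine mul_inv_eq_one.1 (eq_one_of_two_central hF (i := 2) ?_ ?_)
        · refine (QuotientGroup.eq_one_iff _).1 ?_
          rw [QuotientGroup.mk_mul, QuotientGroup.mk_mul, QuotientGroup.mk_mul, hz,
            QuotientGroup.mk_inv, mul_inv_cancel_right, QuotientGroup.mk_inv, mul_inv_cancel]
        · have hz' : g * A * g⁻¹ * A⁻¹ ∈ Subgroup.center ↥(Cfsg.GU 3 F q) := by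
            refine (QuotientGroup.eq_one_iff _).1 ?_
            rw [QuotientGroup.mk_mul, QuotientGroup.mk_mul, QuotientGroup.mk_mul, hz,
              QuotientGroup.mk_inv, mul_inv_cancel_right, QuotientGroup.mk_inv, mul_inv_cancel]
          set z := g * A * g⁻¹ * A⁻¹ with hzdef
          have hzA : z * A = g * A * g⁻¹ := inv_mul_cancel_right _ _
          have h1 : z * z = 1 := by
            have h2 : (z * A) * (z * A) = 1 := by
              rw [hzA, show g * A * g⁻¹ * (g * A * g⁻¹) = g * (A * A) * g⁻¹ by group, hAA,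
                mul_one, mul_inv_cancel]
            rwa [mul_assoc, ← mul_assoc A, Subgroup.mem_center_iff.1 hz' A, mul_assoc z A, hAA,
              mul_one] at h2
          rw [show (2 : ℕ) ^ 2 = 2 * 2 from rfl, pow_mul, sq z, h1, one_pow]
      have hmat := utv_gu_conj g v c
      rw [show ((g : GL (Fin 3) F) : Matrix (Fin 3) (Fin 3) F) * Cfsg.unitaryTransvection 3 q v c *
          (((g : GL (Fin 3) F)⁻¹ : GL (Fin 3) F) : Matrix (Fin 3) (Fin 3) F) = mt (g * A * g⁻¹) from rfl,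
        hcomm, show mt A = Cfsg.unitaryTransvection 3 q v c from rfl] at hmat
      obtain ⟨l, hl⟩ := utv_eq_span hF (u := mt g *ᵥ v)
        (fun h => hv (gu_injective g (h.trans (Matrix.mulVec_zero _).symm))) hc0 hmat.symm
      rw [hl, utv_smul hF] at hmat
      have hl1 : l ^ (q + 1) = 1 := by
        have := utv_injective hF hv hmat
        exact mul_left_cancel₀ hc0 (by rw [mul_one]; exact this.symm)
      have hl0 : l ≠ 0 := fun h => by rw [h, zero_pow (by omega)] at hl1; exact zero_ne_one hl1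
      let w : ↥(normOne F q) := ⟨Units.mk0 l hl0, mem_normOne.2 (Units.ext (by simpa using hl1))⟩
      refine ⟨⟨(scalarU hF 3 w)⁻¹ * g, ?_⟩, ?_⟩
      · show mt ((scalarU hF 3 w)⁻¹ * g) *ᵥ v = v
        rw [show mt ((scalarU hF 3 w)⁻¹ * g) = mt (scalarU hF 3 w)⁻¹ * mt g from rfl,
          ← Matrix.mulVec_mulVec, hl]
        have h1 : mt (scalarU hF 3 w) *ᵥ v = l • v := by
          rw [show mt (scalarU hF 3 w) = l • 1 from coe_scalarU hF w, Matrix.smul_mulVec,
            Matrix.one_mulVec]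
        rw [← h1, Matrix.mulVec_mulVec, show mt (scalarU hF 3 w)⁻¹ * mt (scalarU hF 3 w) =
          mt ((scalarU hF 3 w)⁻¹ * scalarU hF 3 w) from rfl, inv_mul_cancel]
        exact Matrix.one_mulVec v
      · show (QuotientGroup.mk ((scalarU hF 3 w)⁻¹ * g) : _ ⧸ _) = _
        rw [QuotientGroup.mk_mul, QuotientGroup.mk_inv, (QuotientGroup.eq_one_iff _).2
          (Subgroup.mem_center_iff.2 fun k => (scalarU_comm hF w k).symm), inv_one, one_mul]
  exact (cent_facts hF T).congr ((MonoidHom.ofInjective hinj).trans (MulEquiv.subgroupCongr hrange))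

omit T in
/-- `PGU₃(q)` has an involution. -/
theorem exists_invol [CharP F 2] :
    ∃ y : ↥(Cfsg.GU 3 F q) ⧸ Subgroup.center ↥(Cfsg.GU 3 F q), orderOf y = 2 := by
  obtain ⟨e, he, hee⟩ := exists_isotropic (n := 3) hF (by norm_num)
  obtain ⟨f, u, T⟩ := exists_tri hF he hee
  have hc : (1 : F) + 1 ^ q = 0 := by rw [one_pow, CharTwo.add_self_eq_zero]
  obtain ⟨hm, hx, hs⟩ := tv_mem hF T hc
  refine ⟨QuotientGroup.mk (suToGU (suTv 3 e 1 T.H.ee hc hF)), orderOf_eq_prime ?_ fun h => ?_⟩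
  · obtain ⟨l, x, s⟩ := coord_mul hF T hm.1 hm.1
    obtain ⟨a, b, d⟩ := coord_one hF T
    rw [← QuotientGroup.mk_pow, sq, vstab_ext hF T (mul_mem hm.1 hm.1) (one_mem _)
      (by rw [l, hm.2, a, mul_one]) (by rw [x, hx, b, zero_mul, add_zero])
      (by rw [s, hx, d, zero_mul, add_zero, CharTwo.add_self_eq_zero]), QuotientGroup.mk_one]
  · have h1 := eq_one_of_two_central hF ((QuotientGroup.eq_one_iff _).1 h)
      (rad_pow_four hF T hm)
    rw [h1, (coord_one hF T).2.2] at hs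
    exact zero_ne_one hs

end CfsgLib.PGU3Char
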